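import Cfsg.Agent.H229.Cyc.Rows
import Cfsg.Agent.S2607
import Cfsg.Agent.S2608

/-!
# TWOCYC (S3507): `PΩ₈⁺(q)`, `q ≥ 4` (helper229)
-/

set_option autoImplicit false

namespace Cfsg.Agent.H229.Cyc

open Cfsg Cfsg.Agent.H384.Cyc

universe u

theorem not_cyclic_of_equiv {A B C : Type*} [Group A] [Group B] [Group C] (e : A ≃* B × C)
    (h : ∃ x y : B, x * y ≠ y * x) : ¬ IsCyclic A := by
  intro hc
  obtain ⟨x, y, hxy⟩ := h
  obtain ⟨g, hg⟩ := hc.exists_generator
  have h1 : ∀ a b : A, a * b = b * a := by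
    intro a b
    obtain ⟨n, rfl⟩ := Subgroup.mem_zpowers_iff.1 (hg a)
    obtain ⟨k, rfl⟩ := Subgroup.mem_zpowers_iff.1 (hg b)
    exact (Commute.refl g).zpow_zpow n k
  apply hxy
  have h2 := h1 (e.symm (x, 1)) (e.symm (y, 1))
  rw [← map_mul, ← map_mul] at h2
  have h3 := e.symm.injective h2
  exact congrArg Prod.fst h3

theorem five_pow_ge (f : ℕ) : 4 * f + 1 ≤ 5 ^ f := by
  induction f with
  | zero => norm_num
  | succ f ih => rw [pow_succ]; omega

variable {F : Type u} [Field F] [Fintype F]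

/-- **`PΩ₈⁺(q)`**, `q ≥ 4`. -/
theorem sm_plus_four (h4 : 4 ≤ Fintype.card F) : Sm (POmega F (quadFormPlus 4 F)) := by
  obtain ⟨p, hchar⟩ := CharP.exists F
  obtain ⟨n, hpp, hn⟩ := FiniteField.card F p
  obtain ⟨f, hf1, hF⟩ : ∃ f : ℕ, 1 ≤ f ∧ Fintype.card F = p ^ f := ⟨n, n.pos, hn⟩
  have hpf := Fact.mk hpp
  have hfin : Finite (isometryGroup F (quadFormPlus 4 F)) := inferInstance
  have hfin' : Finite (POmega F (quadFormPlus 4 F)) := inferInstance
  have hf0 : NeZero f := ⟨by omega⟩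
  by_cases hp2 : p = 2
  · subst hp2
    have h1 := S2607.result (F := F) hf1 hF (m := 4) le_rfl
    rw [if_pos rfl] at h1
    obtain ⟨e⟩ := h1
    have hn : ¬ IsCyclic (Out (POmega F (quadFormPlus 4 F))) :=
      not_cyclic_of_equiv e ⟨Equiv.swap 0 1, Equiv.swap 1 2, by decide⟩
    have hc : Nat.card (Out (POmega F (quadFormPlus 4 F))) = 2 * (3 * f) := by
      rw [Nat.card_congr e.toEquiv, Nat.card_prod, Nat.card_eq_fintype_card, Nat.card_eq_fintype_card,
        Fintype.card_perm, Fintype.card_multiplicative, ZMod.card, Fintype.card_fin]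
      rw [show Nat.factorial 3 = 6 by rfl]
      ring
    refine sm_plus_of (k := 3 * f) le_rfl h4 (fun c hcc => mo_of_not_cyclic hc hn hcc) ?_
    have hf2 : 2 ≤ f := by
      by_contra hcon
      have : f = 1 := by omega
      rw [hF, this] at h4
      omega
    rw [hF, ← pow_mul]
    obtain ⟨j, rfl⟩ := Nat.exists_eq_add_of_le hf2
    have := two_pow_ge j
    have e : 2 ^ ((2 + j) * (4 - 2)) = 16 * (2 ^ j * 2 ^ j) := by
      rw [show (2 + j) * (4 - 2) = 4 + (j + j) by omega, pow_add, pow_add]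
      norm_num
    rw [e]
    nlinarith
  · have h1 := S2608.result (F := F) hf1 hF hp2 (m := 4) le_rfl
    rw [if_pos rfl] at h1
    obtain ⟨e⟩ := h1
    have hn : ¬ IsCyclic (Out (POmega F (quadFormPlus 4 F))) :=
      not_cyclic_of_equiv e ⟨Equiv.swap 0 1, Equiv.swap 1 2, by decide⟩
    have hc : Nat.card (Out (POmega F (quadFormPlus 4 F))) = 2 * (12 * f) := by
      rw [Nat.card_congr e.toEquiv, Nat.card_prod, Nat.card_eq_fintype_card, Nat.card_eq_fintype_card,
        Fintype.card_perm, Fintype.card_multiplicative, ZMod.card, Fintype.card_fin]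
      rw [show Nat.factorial 4 = 24 by rfl]
      ring
    refine sm_plus_of (k := 12 * f) le_rfl h4 (fun c hcc => mo_of_not_cyclic hc hn hcc) ?_
    rw [show (4 - 2 : ℕ) = 2 by rfl]
    have hp3 : 3 ≤ p := by have := hpp.two_le; omega
    rcases Nat.lt_or_ge p 5 with h | h5
    · have hp3' : p = 3 := by
        rcases (show p = 3 ∨ p = 4 by omega) with h | h
        · exact h
        · rw [h] at hpp
          exact absurd hpp (by norm_num)
      have hf2 : 2 ≤ f := by
        by_contra hcon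
        have : f = 1 := by omega
        rw [hF, this, hp3'] at h4
        omega
      obtain ⟨j, rfl⟩ := Nat.exists_eq_add_of_le hf2
      have := three_pow_ge j
      have e : Fintype.card F ^ 2 = 81 * (3 ^ j * 3 ^ j) := by
        rw [hF, hp3', pow_add]; ring
      rw [e]
      nlinarith
    · have h6 : 5 ^ f ≤ Fintype.card F := by rw [hF]; exact Nat.pow_le_pow_left h5 f
      have h7 : 4 * f + 1 ≤ 5 ^ f := five_pow_ge f
      nlinarith

end Cfsg.Agent.H229.Cyc
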