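import Cfsg.Agent.H384.Cyc.Defs
import Cfsg.Agent.H934.OutB

/-!
# TWOCYC (S3507): the order of automorphisms from `|Out|` (helper229)
-/

set_option autoImplicit false

namespace Cfsg.Agent.H229.Cyc

open Cfsg Cfsg.Agent.H384.Cyc

universe u

variable {T : Type u} [Group T] [Finite T]

/-- if `α ^ k` is inner for all `α` -/
theorem mo_of_pow {k c : ℕ} (hk : 0 < k) (h : ∀ α : MulAut T, ∃ g : T, α ^ k = MulAut.conj g)
    (hc : ∀ g : T, orderOf g ≤ c) : Mo T (k * c) := by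
  intro α
  obtain ⟨g, hg⟩ := h α
  have h1 : α ^ (k * orderOf g) = 1 := by
    rw [pow_mul, hg, ← map_pow, pow_orderOf_eq_one, map_one]
  have h2 := orderOf_dvd_of_pow_eq_one h1
  have h3 := Nat.le_of_dvd (Nat.mul_pos hk (orderOf_pos g)) h2
  exact h3.trans (Nat.mul_le_mul_left k (hc g))

/-- the powers in `Out` -/
theorem pow_inner {k : ℕ} {α : MulAut T} (h : ((α : MulAut T) : Out T) ^ k = 1) : ∃ g : T, α ^ k = MulAut.conj g := by
  have h1 : ((α ^ k : MulAut T) : Out T) = 1 := by rw [← h]; rfl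
  have h2 := (QuotientGroup.eq_one_iff _).1 h1
  obtain ⟨g, hg⟩ := h2
  exact ⟨g, hg.symm⟩

theorem mo_of_out {k c : ℕ} (hk : Nat.card (Out T) = k) (hc : ∀ g : T, orderOf g ≤ c) : Mo T (k * c) := by
  have hk0 : 0 < k := by rw [← hk]; exact Nat.card_pos
  refine mo_of_pow hk0 (fun α => pow_inner ?_) hc
  rw [← hk]
  exact pow_card_eq_one'

/-- `Out` is not cyclic: the orders are at most `|Out| / 2` -/
theorem mo_of_not_cyclic {k c : ℕ} (hk : Nat.card (Out T) = 2 * k) (hn : ¬ IsCyclic (Out T))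
    (hc : ∀ g : T, orderOf g ≤ c) : Mo T (k * c) := by
  have hk0 : 0 < k := by
    have : 0 < Nat.card (Out T) := Nat.card_pos
    omega
  intro α
  obtain ⟨m, hm⟩ : ∃ m, m = orderOf ((α : MulAut T) : Out T) := ⟨_, rfl⟩
  have h1 : m ∣ 2 * k := by rw [hm, ← hk]; exact orderOf_dvd_natCard _
  have h2 : m ≠ 2 * k := by
    intro h
    apply hn
    apply isCyclic_of_orderOf_eq_card ((α : MulAut T) : Out T)
    rw [← hm, h, hk]
  have h3 : m ≤ k := by
    obtain ⟨j, hj⟩ := h1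
    have hj0 : j ≠ 0 := by rintro rfl; omega
    have hj1 : j ≠ 1 := by rintro rfl; omega
    have hj2 : 2 ≤ j := by omega
    have h4 : m * 2 ≤ m * j := Nat.mul_le_mul_left _ hj2
    omega
  obtain ⟨g, hg⟩ := pow_inner (α := α) (k := m) (by rw [hm]; exact pow_orderOf_eq_one _)
  have hm0 : 0 < m := by rw [hm]; exact orderOf_pos _
  have h5 : α ^ (m * orderOf g) = 1 := by
    rw [pow_mul, hg, ← map_pow, pow_orderOf_eq_one, map_one]
  have h6 := Nat.le_of_dvd (Nat.mul_pos hm0 (orderOf_pos g)) (orderOf_dvd_of_pow_eq_one h5)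
  exact h6.trans (Nat.mul_le_mul h3 (hc g))

theorem Sm.of {m : ℕ} (h1 : Mo T m) (h2 : ∀ H : Subgroup T, H ≠ ⊤ → 2 * m < H.index) : Sm T := ⟨m, h1, h2⟩

end Cfsg.Agent.H229.Cyc
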