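import Cfsg.Agent.H229.Cyc.Mo
import Cfsg.Agent.S0295
import Cfsg.Agent.S0296
import Cfsg.Agent.S0297
import Cfsg.Agent.S0816
import Cfsg.Agent.S0817
import Cfsg.Agent.S0818
import Cfsg.Agent.S2143
import Cfsg.Agent.S2144
import Cfsg.Agent.S2145
import Cfsg.Agent.S2146
import Cfsg.Agent.S2147
import Cfsg.Agent.S2265

/-!
# TWOCYC (S3507): `Sm` for the orthogonal groups (helper229)
-/

set_option autoImplicit false

namespace Cfsg.Agent.H229.Cyc

open Cfsg Cfsg.Agent.H384.Cyc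

universe u

theorem not_comm_of_card {T : Type u} [Group T] [Finite T] [IsSimpleGroup T] {k : ℕ} (hk : 2 ≤ k)
    (h : Nat.card (MulAut T) = k * Nat.card T) : ¬ IsMulCommutative T := by
  intro hc
  let _ : CommGroup T := { (inferInstance : Group T) with mul_comm := fun a b => hc.is_comm.comm a b }
  have h1 : IsCyclic T := IsSimpleGroup.isCyclic
  obtain ⟨g, hg⟩ := h1.exists_generator
  have h2 : Function.Injective (fun α : MulAut T => α g) := by
    intro α β hαβ
    apply MulEquiv.ext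
    intro x
    obtain ⟨n, rfl⟩ := Subgroup.mem_zpowers_iff.1 (hg x)
    rw [map_zpow, map_zpow]
    exact congrArg (· ^ n) hαβ
  have h3 := Nat.card_le_card_of_injective _ h2
  rw [h] at h3
  have h4 : 0 < Nat.card T := Nat.card_pos
  nlinarith

section Num

theorem three_pow_ge (f : ℕ) : 2 * f + 1 ≤ 3 ^ f := by
  induction f with
  | zero => norm_num
  | succ f ih => rw [pow_succ]; omega

theorem two_pow_ge (f : ℕ) : f + 1 ≤ 2 ^ f := Nat.lt_two_pow_self

/-- `A = ⌊q^(m+1)/(q-1)⌋`, `(q - 1) B = N`, `2 k q^(m+1) < N` -/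
theorem lt_of_div {q m k B : ℕ} (hq : 2 ≤ q) (h : 2 * k * q ^ (m + 1) < (q - 1) * B) :
    2 * (k * (q ^ (m + 1) / (q - 1))) < B := by
  have hq1 : 0 < q - 1 := by omega
  have h1 : (q - 1) * (q ^ (m + 1) / (q - 1)) ≤ q ^ (m + 1) := Nat.mul_div_le _ _
  have h2 : (q - 1) * (2 * (k * (q ^ (m + 1) / (q - 1)))) ≤ 2 * k * q ^ (m + 1) := by
    calc (q - 1) * (2 * (k * (q ^ (m + 1) / (q - 1)))) = 2 * k * ((q - 1) * (q ^ (m + 1) / (q - 1))) := by ring
      _ ≤ _ := Nat.mul_le_mul_left _ h1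
  exact lt_of_mul_lt_mul_left (lt_of_le_of_lt h2 h) (Nat.zero_le _)

end Num

variable {F : Type u} [Field F] [Fintype F]

/-- **`PΩ_{2m+1}(q)`.** -/
theorem sm_odd (hodd : Odd (Fintype.card F)) {m : ℕ} (hm : 3 ≤ m) : Sm (POmega F (quadFormOdd m F)) := by
  obtain ⟨p, hchar⟩ := CharP.exists F
  obtain ⟨n, hpp, hn⟩ := FiniteField.card F p
  obtain ⟨f, hf1, hF⟩ : ∃ f : ℕ, 1 ≤ f ∧ Fintype.card F = p ^ f := ⟨n, n.pos, hn⟩
  have hpf := Fact.mk hpp
  have hpodd : Odd p := by
    rw [hF] at hodd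
    exact (Nat.odd_pow_iff (by omega)).1 hodd
  have hs := S0295.result (F := F) hodd m hm
  have hfin : Finite (isometryGroup F (quadFormOdd m F)) := inferInstance
  have hfin' : Finite (POmega F (quadFormOdd m F)) := inferInstance
  have hA := S0816.result (F := F) p f hf1 hF hpodd m hm
  have hna := not_comm_of_card (by omega : 2 ≤ 2 * f) hA
  have hout := H934.OutB.card_out_of_aut hna hA
  obtain ⟨q, hq⟩ : ∃ q, q = Fintype.card F := ⟨_, rfl⟩
  have hp3 : 3 ≤ p := by
    have := hpp.two_le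
    obtain ⟨j, hj⟩ := hpodd
    omega
  have hqf : 2 * f + 1 ≤ q := by
    rw [hq, hF]
    exact (three_pow_ge f).trans (Nat.pow_le_pow_left hp3 f)
  have hq3 : 3 ≤ q := by omega
  have hc : ∀ g : POmega F (quadFormOdd m F), orderOf g ≤ q ^ (m + 1) / (q - 1) := by
    intro g
    have h1 := (S2265.result (F := F) m).1 hm hodd g
    rw [← hq] at h1
    rw [Nat.le_div_iff_mul_le (by omega), mul_comm]
    exact h1
  refine ⟨_, mo_of_out hout hc, fun H hH => ?_⟩
  rcases Nat.lt_or_ge q 5 with hlt | h5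
  · -- `q = 3`
    have hq3' : q = 3 := by
      rw [← hq] at hodd
      obtain ⟨j, hj⟩ := hodd
      omega
    have h1 := (S2144.result (F := F) (by rw [← hq, hq3']) m hm).1 H hH
    refine lt_of_lt_of_le ?_ h1
    have hf : f = 1 := by omega
    rw [hq3', hf]
    have h27 : 3 ^ 3 ≤ 3 ^ m := Nat.pow_le_pow_right (by norm_num) hm
    rw [pow_succ]
    generalize 3 ^ m = x at h27
    have h2 : 14 * x ≤ x * (x - 1) := by
      rw [mul_comm]
      exact Nat.mul_le_mul_left x (by omega)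
    generalize x * (x - 1) = y at h2
    omega
  · have h1 := (S2143.result (F := F) hq.symm (by rw [hq]; exact hodd) h5 m hm).1 H hH
    refine lt_of_lt_of_le ?_ h1
    apply lt_of_div (by omega)
    have hdvd : q - 1 ∣ q ^ (2 * m) - 1 := by
      simpa using Nat.sub_dvd_pow_sub_pow q 1 (2 * m)
    rw [Nat.mul_div_cancel' hdvd]
    have h2 : q ^ (2 * m) = q ^ (m + 1) * q ^ (m - 1) := by rw [← pow_add]; congr 1; omega
    have h3 : q ^ 2 ≤ q ^ (m - 1) := Nat.pow_le_pow_right (by omega) (by omega)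
    have h4 : 4 * f + 1 ≤ q ^ 2 := by nlinarith
    have h5' : (4 * f + 1) * q ^ (m + 1) ≤ q ^ (2 * m) := by
      rw [h2, mul_comm]
      exact Nat.mul_le_mul_left _ (h4.trans h3)
    have h6 : q ^ 1 ≤ q ^ (m + 1) := Nat.pow_le_pow_right (by omega) (by omega)
    rw [pow_one] at h6
    have h7 : (4 * f + 1) * q ^ (m + 1) = 2 * (2 * f) * q ^ (m + 1) + q ^ (m + 1) := by ring
    rw [h7] at h5'
    generalize 2 * (2 * f) * q ^ (m + 1) = u at h5' ⊢
    generalize q ^ (m + 1) = v at h5' h6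
    generalize q ^ (2 * m) = w at h5' ⊢
    omega

/-- **`PΩ⁻_{2m}(q)`**, `(m, q) ≠ (4, 2)`. -/
theorem sm_minus {m : ℕ} (hm : 4 ≤ m) (a b : F)
    (hab : ∀ z₁ z₂ : F, z₁ ^ 2 + a * z₁ * z₂ + b * z₂ ^ 2 = 0 → z₁ = 0 ∧ z₂ = 0)
    (h42 : m = 4 → Fintype.card F ≠ 2) : Sm (POmega F (quadFormMinus (m - 1) F a b)) := by
  obtain ⟨p, hchar⟩ := CharP.exists F
  obtain ⟨n, hpp, hn⟩ := FiniteField.card F p
  obtain ⟨f, hf1, hF⟩ : ∃ f : ℕ, 1 ≤ f ∧ Fintype.card F = p ^ f := ⟨n, n.pos, hn⟩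
  have hpf := Fact.mk hpp
  have hs := S0297.result (F := F) m hm a b hab
  have hfin : Finite (isometryGroup F (quadFormMinus (m - 1) F a b)) := inferInstance
  have hfin' : Finite (POmega F (quadFormMinus (m - 1) F a b)) := inferInstance
  have hA := S0818.result (F := F) p f hf1 hF m hm a b hab
  obtain ⟨k, hk⟩ : ∃ k, k = (if p = 2 then 2 else (if Even (m * (p ^ f - 1) / 2) then 4 else 8)) := ⟨_, rfl⟩
  rw [← hk] at hA
  have hk2 : 2 ≤ k := by rw [hk]; split_ifs <;> norm_num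
  have hna := not_comm_of_card (by nlinarith : 2 ≤ k * f) hA
  have hout := H934.OutB.card_out_of_aut hna hA
  obtain ⟨q, hq⟩ : ∃ q, q = Fintype.card F := ⟨_, rfl⟩
  have hq2 : 2 ≤ q := by rw [hq]; exact Fintype.one_lt_card
  have hc : ∀ g : POmega F (quadFormMinus (m - 1) F a b), orderOf g ≤ q ^ (m + 1) / (q - 1) := by
    intro g
    have h1 := (S2265.result (F := F) m).2.2 hm a b hab g
    rw [← hq] at h1
    rw [Nat.le_div_iff_mul_le (by omega), mul_comm]
    exact h1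
  -- the inequality
  have key : 2 * (k * f) < q ^ (m - 2) := by
    by_cases hp2 : p = 2
    · rw [if_pos hp2] at hk
      rw [hk, hq, hF, hp2]
      rcases hm.eq_or_lt with h4 | h5
      · have hf2 : 2 ≤ f := by
          by_contra hcon
          have : f = 1 := by omega
          apply h42 h4.symm
          rw [hF, hp2, this, pow_one]
        rw [← h4, ← pow_mul]
        obtain ⟨j, rfl⟩ := Nat.exists_eq_add_of_le hf2
        have := two_pow_ge j
        have e : 2 ^ ((2 + j) * (4 - 2)) = 16 * (2 ^ j * 2 ^ j) := by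
          rw [show (2 + j) * (4 - 2) = 4 + (j + j) by omega, pow_add, pow_add]
          norm_num
        rw [e]
        nlinarith
      · rw [← pow_mul]
        have h3 : 2 ^ (f * 3) ≤ 2 ^ (f * (m - 2)) := Nat.pow_le_pow_right (by norm_num) (Nat.mul_le_mul_left _ (by omega))
        refine lt_of_lt_of_le ?_ h3
        have := two_pow_ge f
        have e : 2 ^ (f * 3) = 2 ^ f * 2 ^ f * 2 ^ f := by rw [show f * 3 = f + f + f by ring, pow_add, pow_add]
        rw [e]
        have h4 : (f + 1) * (f + 1) * (f + 1) ≤ 2 ^ f * 2 ^ f * 2 ^ f := Nat.mul_le_mul (Nat.mul_le_mul this this) this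
        nlinarith
    · have hp3 : 3 ≤ p := by have := hpp.two_le; omega
      have hp := three_pow_ge f
      have hq3 : 3 ^ f ≤ q := by rw [hq, hF]; exact Nat.pow_le_pow_left hp3 f
      have h9 : 8 * f < 9 ^ f := by
        have e : 9 ^ f = 3 ^ f * 3 ^ f := by rw [show (9 : ℕ) = 3 * 3 by norm_num, mul_pow]
        rw [e]
        have h4 : (2 * f + 1) * (2 * f + 1) ≤ 3 ^ f * 3 ^ f := Nat.mul_le_mul hp hp
        rcases Nat.lt_or_ge f 2 with h | h
        · have : f = 1 := by omega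
          rw [this]; norm_num
        · nlinarith
      rcases hm.eq_or_lt with h4 | h5
      · have hk4 : k = 4 := by
          rw [hk, if_neg hp2, if_pos]
          rw [← h4]
          have : 4 * (p ^ f - 1) / 2 = 2 * (p ^ f - 1) := by omega
          rw [this]
          exact even_two_mul _
        rw [hk4, ← h4]
        have : 9 ^ f ≤ q ^ 2 := by
          have e : 9 ^ f = (3 ^ f) ^ 2 := by
            rw [show (9 : ℕ) = 3 * 3 by norm_num, mul_pow]
            ring
          rw [e]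
          exact Nat.pow_le_pow_left hq3 2
        have e : q ^ (4 - 2) = q ^ 2 := rfl
        omega
      · have hk8 : k ≤ 8 := by
          rw [hk, if_neg hp2]
          split_ifs <;> norm_num
        have h3 : (3 ^ f) ^ 3 ≤ q ^ (m - 2) :=
          (Nat.pow_le_pow_left hq3 3).trans (Nat.pow_le_pow_right (by omega) (by omega))
        refine lt_of_lt_of_le ?_ h3
        have e : (3 ^ f) ^ 3 = 9 ^ f * 3 ^ f := by
          rw [show (9 : ℕ) = 3 * 3 by norm_num, mul_pow]; ring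
        rw [e]
        have h10 : 3 ≤ 3 ^ f := by omega
        have h11 : 9 ^ f * 3 ≤ 9 ^ f * 3 ^ f := Nat.mul_le_mul_left _ h10
        have h12 : k * f ≤ 8 * f := Nat.mul_le_mul_right _ hk8
        omega
  refine ⟨_, mo_of_out hout hc, fun H hH => ?_⟩
  have h1 := (S2147.result (F := F) hq.symm m hm a b hab).1 H hH
  refine lt_of_lt_of_le ?_ h1
  apply lt_of_div hq2
  have hdvd : q - 1 ∣ (q ^ m + 1) * (q ^ (m - 1) - 1) := by
    have : q - 1 ∣ q ^ (m - 1) - 1 := by simpa using Nat.sub_dvd_pow_sub_pow q 1 (m - 1)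
    exact this.mul_left _
  rw [Nat.mul_div_cancel' hdvd]
  obtain ⟨X, hX⟩ : ∃ X, X = q ^ (m - 1) := ⟨_, rfl⟩
  have e1 : q ^ m = q * X := by rw [hX, ← pow_succ']; congr 1; omega
  have e2 : q ^ (m + 1) = q * (q * X) := by rw [pow_succ', e1]
  have e3 : X = q * q ^ (m - 2) := by rw [hX, ← pow_succ']; congr 1; omega
  have e4 : q * (2 * (k * f) + 1) ≤ X := by rw [e3]; exact Nat.mul_le_mul_left _ key
  have e5 : 2 * (k * f) * q + 1 ≤ X := by nlinarith
  rw [← hX, e1, e2]
  obtain ⟨Y, hY⟩ : ∃ Y, X = Y + 1 := ⟨X - 1, by omega⟩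
  have e6 : 2 * (k * f) * q ≤ Y := by omega
  rw [hY, Nat.add_sub_cancel]
  have e7 : 2 * (k * f) * (q * (q * (Y + 1))) = (2 * (k * f) * q) * (q * (Y + 1)) := by ring
  rw [e7]
  have e8 : (2 * (k * f) * q) * (q * (Y + 1)) ≤ Y * (q * (Y + 1)) := Nat.mul_le_mul_right _ e6
  have e9 : (q * (Y + 1) + 1) * Y = Y * (q * (Y + 1)) + Y := by ring
  rw [e9]
  have e10 : 0 < Y := by
    have : 0 < 2 * (k * f) * q := by positivity
    omega
  omega

/-- **`PΩ⁺_{2m}(q)`**, from the order of `Out` -/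
theorem sm_plus_of {m k : ℕ} (hm : 4 ≤ m) (h4 : 4 ≤ Fintype.card F)
    (hmo : ∀ c : ℕ, (∀ g : POmega F (quadFormPlus m F), orderOf g ≤ c) → Mo (POmega F (quadFormPlus m F)) (k * c))
    (key : 2 * k ≤ Fintype.card F ^ (m - 2)) : Sm (POmega F (quadFormPlus m F)) := by
  obtain ⟨q, hq⟩ : ∃ q, q = Fintype.card F := ⟨_, rfl⟩
  have hc : ∀ g : POmega F (quadFormPlus m F), orderOf g ≤ q ^ (m + 1) / (q - 1) := by
    intro g
    have h1 := (S2265.result (F := F) m).2.1 hm g
    rw [← hq] at h1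
    rw [Nat.le_div_iff_mul_le (by omega), mul_comm]
    exact h1
  rw [← hq] at key h4
  refine ⟨_, hmo _ hc, fun H hH => ?_⟩
  have h1 := (S2145.result (F := F) hq.symm h4 m hm).1 H hH
  refine lt_of_lt_of_le ?_ h1
  apply lt_of_div (by omega)
  have hdvd : q - 1 ∣ (q ^ m - 1) * (q ^ (m - 1) + 1) := by
    have : q - 1 ∣ q ^ m - 1 := by simpa using Nat.sub_dvd_pow_sub_pow q 1 m
    exact this.mul_right _
  rw [Nat.mul_div_cancel' hdvd]
  obtain ⟨X, hX⟩ : ∃ X, X = q ^ (m - 1) := ⟨_, rfl⟩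
  have e1 : q ^ m = q * X := by rw [hX, ← pow_succ']; congr 1; omega
  have e2 : q ^ (m + 1) = q * (q * X) := by rw [pow_succ', e1]
  have e3 : X = q * q ^ (m - 2) := by rw [hX, ← pow_succ']; congr 1; omega
  have e5 : 2 * k * q ≤ X := by rw [e3, mul_comm (2 * k)]; exact Nat.mul_le_mul_left _ key
  rw [← hX, e1, e2]
  have hX0 : 0 < X := by rw [hX]; positivity
  have hqX : 4 ≤ q * X := by nlinarith
  obtain ⟨Z, hZ⟩ : ∃ Z, q * X = Z + 1 := ⟨q * X - 1, by omega⟩
  have e6 : 2 * k * (q * (q * X)) ≤ X * (q * X) := by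
    have := Nat.mul_le_mul_right (q * X) e5
    calc 2 * k * (q * (q * X)) = 2 * k * q * (q * X) := by ring
      _ ≤ _ := this
  have e7 : (q * X - 1) * (X + 1) = Z * (X + 1) := by rw [hZ, Nat.add_sub_cancel]
  rw [e7]
  rw [hZ] at e6
  have e8 : Z * (X + 1) + X = X * (Z + 1) + Z := by ring
  have e9 : 4 * X ≤ Z + 1 := by rw [← hZ]; exact Nat.mul_le_mul_right _ h4
  have e10 : 2 * k * (q * (q * X)) ≤ X * (Z + 1) := by rw [← hZ] at e6 ⊢; exact e6
  generalize 2 * k * (q * (q * X)) = u at e10 ⊢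
  generalize X * (Z + 1) = v at e10 e8
  generalize Z * (X + 1) = w at e8 ⊢
  omega

/-- **`PΩ⁺_{2m}(q)`**, `m ≥ 5`, `q ≥ 4`. -/
theorem sm_plus {m : ℕ} (hm : 5 ≤ m) (h4 : 4 ≤ Fintype.card F) : Sm (POmega F (quadFormPlus m F)) := by
  obtain ⟨p, hchar⟩ := CharP.exists F
  obtain ⟨n, hpp, hn⟩ := FiniteField.card F p
  obtain ⟨f, hf1, hF⟩ : ∃ f : ℕ, 1 ≤ f ∧ Fintype.card F = p ^ f := ⟨n, n.pos, hn⟩
  have hpf := Fact.mk hpp
  have hs := S0296.result (F := F) m (by omega)
  have hfin : Finite (isometryGroup F (quadFormPlus m F)) := inferInstance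
  have hfin' : Finite (POmega F (quadFormPlus m F)) := inferInstance
  have hA := S0817.result (F := F) p f hf1 hF m (by omega)
  rw [if_neg (by omega), one_mul] at hA
  obtain ⟨k, hk⟩ : ∃ k, k = (if p = 2 then 2 else (if Even (m * (p ^ f - 1) / 2) then 8 else 4)) := ⟨_, rfl⟩
  rw [← hk] at hA
  have hk2 : 2 ≤ k := by rw [hk]; split_ifs <;> norm_num
  have hna := not_comm_of_card (by nlinarith : 2 ≤ k * f) hA
  have hout := H934.OutB.card_out_of_aut hna hA
  refine sm_plus_of (k := k * f) (by omega) h4 (fun c hc => mo_of_out hout hc) ?_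
  by_cases hp2 : p = 2
  · rw [if_pos hp2] at hk
    rw [hk, hF, hp2, ← pow_mul]
    have h3 : 2 ^ (f * 3) ≤ 2 ^ (f * (m - 2)) := Nat.pow_le_pow_right (by norm_num) (Nat.mul_le_mul_left _ (by omega))
    refine le_trans ?_ h3
    have := two_pow_ge f
    have e : 2 ^ (f * 3) = 2 ^ f * 2 ^ f * 2 ^ f := by rw [show f * 3 = f + f + f by ring, pow_add, pow_add]
    rw [e]
    have h4 : (f + 1) * (f + 1) * (f + 1) ≤ 2 ^ f * 2 ^ f * 2 ^ f := Nat.mul_le_mul (Nat.mul_le_mul this this) this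
    nlinarith
  · have hp3 : 3 ≤ p := by have := hpp.two_le; omega
    have hp := three_pow_ge f
    have hq3 : 3 ^ f ≤ Fintype.card F := by rw [hF]; exact Nat.pow_le_pow_left hp3 f
    have hk8 : k ≤ 8 := by
      rw [hk, if_neg hp2]
      split_ifs <;> norm_num
    have h3 : (3 ^ f) ^ 3 ≤ Fintype.card F ^ (m - 2) :=
      (Nat.pow_le_pow_left hq3 3).trans (Nat.pow_le_pow_right (by omega) (by omega))
    refine le_trans ?_ h3
    have e : (3 ^ f) ^ 3 = 3 ^ f * 3 ^ f * 3 ^ f := by ring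
    rw [e]
    have h11 : (2 * f + 1) * (2 * f + 1) * (2 * f + 1) ≤ 3 ^ f * 3 ^ f * 3 ^ f := Nat.mul_le_mul (Nat.mul_le_mul hp hp) hp
    have h12 : k * f ≤ 8 * f := Nat.mul_le_mul_right _ hk8
    nlinarith

/-- **`PΩ⁺_{2m}(2)`**, `m ≥ 5`. -/
theorem sm_plus_two {m : ℕ} (hm : 5 ≤ m) (hF : Fintype.card F = 2) : Sm (POmega F (quadFormPlus m F)) := by
  have hpf := Fact.mk Nat.prime_two
  have hs := S0296.result (F := F) m (by omega)
  have hfin : Finite (isometryGroup F (quadFormPlus m F)) := inferInstance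
  have hfin' : Finite (POmega F (quadFormPlus m F)) := inferInstance
  have hA := S0817.result (F := F) 2 1 le_rfl (by rw [hF, pow_one]) m (by omega)
  rw [if_neg (by omega), one_mul, if_pos rfl, mul_one] at hA
  have hna := not_comm_of_card le_rfl hA
  have hout := H934.OutB.card_out_of_aut hna hA
  have hc : ∀ g : POmega F (quadFormPlus m F), orderOf g ≤ 2 ^ (m + 1) := by
    intro g
    have h1 := (S2265.result (F := F) m).2.1 (by omega) g
    rw [hF] at h1
    simpa using h1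
  refine ⟨_, mo_of_out hout hc, fun H hH => ?_⟩
  have h1 := (S2146.result (F := F) hF m (by omega)).1 H hH
  refine lt_of_lt_of_le ?_ h1
  have e1 : 2 ^ m = 2 * 2 ^ (m - 1) := by rw [← pow_succ']; congr 1; omega
  have e2 : 2 ^ (m + 1) = 4 * 2 ^ (m - 1) := by rw [pow_succ', e1]; ring
  have e3 : 2 ^ 4 ≤ 2 ^ (m - 1) := Nat.pow_le_pow_right (by norm_num) (by omega)
  rw [e2, e1]
  generalize 2 ^ (m - 1) = X at e3
  have e4 : X * 31 ≤ X * (2 * X - 1) := Nat.mul_le_mul_left _ (by omega)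
  omega

end Cfsg.Agent.H229.Cyc
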