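import Cfsg.Agent.H229.Cyc.Rows
import Cfsg.Agent.H229.T.Om
import Cfsg.Agent.H934.IdxCl

/-!
# TWOCYC (S3507): `PΩ⁺_{2m}(3)`, `m ≥ 5` (helper229)
-/

set_option autoImplicit false

namespace Cfsg.Agent.H229.Cyc

open Cfsg Cfsg.Agent.H384.Cyc
open QuadraticMap Module
open Cfsg.Agent.LieClassical.OrthCore Cfsg.Agent.LieClassical.OrthForms Cfsg.Agent.LieClassical.OrthFinite
open Cfsg.Agent.H160.QSpin Cfsg.Agent.H160.QDisc Cfsg.Agent.H160.QFinal
open Cfsg.Agent.H229.T

universe u

/-- index bounds go up along a nontrivial homomorphism into a simple group -/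
theorem index_of_hom {S T : Type*} [Group S] [Group T] [Finite T] [IsSimpleGroup T] (φ : S →* T)
    (hφ : ∃ s, φ s ≠ 1) {N : ℕ} (hS : ∀ H : Subgroup S, H ≠ ⊤ → N ≤ H.index) (H : Subgroup T) (hH : H ≠ ⊤) :
    N ≤ H.index := by
  by_contra hcon
  push Not at hcon
  have h1 : ∀ g : T, φ.range ≤ H.map (MulAut.conj g).toMonoidHom := by
    intro g
    have h2 : (H.map (MulAut.conj g).toMonoidHom).index = H.index :=
      Subgroup.index_map_of_bijective (MulAut.conj g).bijective H
    have h3 : ((H.map (MulAut.conj g).toMonoidHom).comap φ).index ≤ H.index := by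
      rw [Subgroup.index_comap, ← h2, ← Subgroup.relIndex_top_right]
      exact Subgroup.relIndex_le_of_le_right le_top (by
        rw [Subgroup.relIndex_top_right]; exact Subgroup.index_ne_zero_of_finite)
    have h4 : (H.map (MulAut.conj g).toMonoidHom).comap φ = ⊤ := by
      by_contra h5
      exact absurd (hS _ h5) (by omega)
    rintro _ ⟨s, rfl⟩
    have : s ∈ (H.map (MulAut.conj g).toMonoidHom).comap φ := by rw [h4]; exact Subgroup.mem_top s
    exact this
  have h5 : H.normalCore = ⊥ := by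
    rcases (inferInstance : H.normalCore.Normal).eq_bot_or_eq_top with h | h
    · exact h
    · exfalso
      apply hH
      rw [eq_top_iff, ← h]
      exact Subgroup.normalCore_le H
  obtain ⟨s, hs⟩ := hφ
  apply hs
  have h6 : φ s ∈ H.normalCore := by
    intro g
    obtain ⟨h, hh, he⟩ := h1 g⁻¹ ⟨s, rfl⟩
    rw [← he]
    simpa [mul_assoc] using hh
  rw [h5] at h6
  exact h6

section

variable {F : Type u} [Field F] [Fintype F]

/-- index bounds from `PΩ_{2m+1}(q)` to `PΩ⁺_{2m+2}(q)` -/
theorem index_plus_of_odd (hodd : Odd (Fintype.card F)) {m : ℕ} (hm : 3 ≤ m) {N : ℕ}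
    (hN : ∀ H : Subgroup (POmega F (quadFormOdd m F)), H ≠ ⊤ → N ≤ H.index)
    (H : Subgroup (POmega F (quadFormPlus (m + 1) F))) (hH : H ≠ ⊤) : N ≤ H.index := by
  classical
  revert H
  have h2 : (2 : F) ≠ 0 := two_ne_zero_of_odd hodd
  have hs := S0295.result (F := F) hodd m hm
  have hs' := S0296.result (F := F) (m + 1) (by omega)
  have hfin : Finite (isometryGroup F (quadFormOdd m F)) := inferInstance
  have hfin' : Finite (POmega F (quadFormOdd m F)) := inferInstance
  have hfin2 : Finite (isometryGroup F (quadFormPlus (m + 1) F)) := inferInstance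
  have hfin2' : Finite (POmega F (quadFormPlus (m + 1) F)) := inferInstance
  have ho := nondeg_oddForm m F h2
  have hp := nondeg_plusForm (m + 1) F
  obtain ⟨c, hc0, hc⟩ := exists_oneF (F := F) h2 (d := dc (oddForm m F) * dc (plusForm (m + 1) F)) (by
    rcases dc_cases ho with h | h <;> rcases dc_cases hp with h' | h' <;> rw [h, h'] <;> simp)
  have h1 := nondeg_oneF h2 hc0
  obtain ⟨e, he⟩ := exists_iso h2 (nondeg_prod h1 ho) hp (by simp; omega) (by
    rw [dc_prod, hc]
    rcases dc_cases ho with h | h <;> rcases dc_cases hp with h' | h' <;> rw [h, h'] <;> simp)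
  obtain ⟨f⟩ := exists_pomega h2 ho (by simp; omega) (by simp)
  have hcp : 5 ≤ Fintype.card (Fin (m + 1) ⊕ Fin (m + 1)) := by simp; omega
  let g : Cfsg.Omega F ⇑(plusForm (m + 1) F) →* Om (plusForm (m + 1) F) :=
    { toFun := fun x => ⟨lin _ x, el_lin h2 hp hcp x⟩
      map_one' := Subtype.ext (map_one (lin _))
      map_mul' := fun x y => Subtype.ext (map_mul (lin _) x y) }
  have hg : Function.Bijective g := by
    constructor
    · intro x y hxy
      exact lin_injective _ (congrArg (fun z : Om (plusForm (m + 1) F) => z.1) hxy)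
    · rintro ⟨g, hg⟩
      obtain ⟨x, hx⟩ := exists_lin h2 hp hcp hg
      exact ⟨x, Subtype.ext hx⟩
  let g' := MulEquiv.ofBijective g hg
  let j : Om (oddForm m F) →* Cfsg.Omega F ⇑(plusForm (m + 1) F) :=
    g'.symm.toMonoidHom.comp ((omCongr he).toMonoidHom.comp (omRight h2 h1 ho))
  have hj : Function.Injective j :=
    g'.symm.injective.comp ((omCongr he).injective.comp (omRight_injective h2 h1 ho))
  -- non-commuting elements
  obtain ⟨p, hchar⟩ := CharP.exists F
  obtain ⟨n, hpp, hn⟩ := FiniteField.card F p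
  have hpf := Fact.mk hpp
  have hpodd : Odd p := by
    rw [hn] at hodd
    exact (Nat.odd_pow_iff (by simp)).1 hodd
  have hn1 : 1 ≤ (n : ℕ) := n.pos
  have hA := S0816.result (F := F) p n hn1 hn hpodd m hm
  have hna := not_comm_of_card (by omega : 2 ≤ 2 * (n : ℕ)) hA
  rw [← coe_oddForm] at hna hN
  obtain ⟨s, t, hst⟩ : ∃ s t : Cfsg.POmega F ⇑(oddForm m F), s * t ≠ t * s := by
    by_contra hcon
    push Not at hcon
    exact hna ⟨⟨hcon⟩⟩
  rw [← coe_plusForm] at hs' hfin2' ⊢
  intro H hH
  refine index_of_hom ((QuotientGroup.mk' (Subgroup.center (Cfsg.Omega F ⇑(plusForm (m + 1) F)))).comp j) ?_ ?_ H hH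
  · by_contra hcon
    push Not at hcon
    apply H934.IdxCl.ne_one_of_not_comm j hj (s := f s) (t := f t)
    · rw [← map_mul, ← map_mul]
      exact fun h => hst (f.injective h)
    · exact hcon _
  · intro K hK
    have h3 : K.comap f.toMonoidHom ≠ ⊤ := by
      intro h
      apply hK
      rw [eq_top_iff]
      intro x _
      obtain ⟨y, rfl⟩ := f.surjective x
      have : y ∈ K.comap f.toMonoidHom := by rw [h]; exact Subgroup.mem_top y
      exact this
    have h4 := hN _ h3
    rwa [Subgroup.index_comap_of_surjective _ f.surjective] at h4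

/-- **`PΩ⁺_{2m}(3)`**, `m ≥ 5`. -/
theorem sm_plus_three {m : ℕ} (hm : 5 ≤ m) (hF : Fintype.card F = 3) : Sm (POmega F (quadFormPlus m F)) := by
  obtain ⟨r, rfl⟩ : ∃ r, m = r + 1 := ⟨m - 1, by omega⟩
  have hpf := Fact.mk Nat.prime_three
  have hs := S0296.result (F := F) (r + 1) (by omega)
  have hfin : Finite (isometryGroup F (quadFormPlus (r + 1) F)) := inferInstance
  have hfin' : Finite (POmega F (quadFormPlus (r + 1) F)) := inferInstance
  have hA := S0817.result (F := F) 3 1 le_rfl (by rw [hF, pow_one]) (r + 1) (by omega)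
  obtain ⟨k, hk⟩ : ∃ k, k = (if Even ((r + 1) * (3 ^ 1 - 1) / 2) then 8 else 4) := ⟨_, rfl⟩
  rw [if_neg (by omega), one_mul, if_neg (by norm_num), mul_one, ← hk] at hA
  have hk4 : 4 ≤ k := by rw [hk]; split_ifs <;> norm_num
  have hna := not_comm_of_card (by omega) hA
  have hout := H934.OutB.card_out_of_aut hna hA
  have hc : ∀ g : POmega F (quadFormPlus (r + 1) F), orderOf g ≤ 3 ^ (r + 2) / 2 := by
    intro g
    have h1 := (S2265.result (F := F) (r + 1)).2.1 (by omega) g
    rw [hF] at h1
    rw [Nat.le_div_iff_mul_le (by omega), mul_comm]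
    exact h1
  refine ⟨_, mo_of_out hout hc, fun H hH => ?_⟩
  have h1 := index_plus_of_odd (F := F) (by rw [hF]; decide) (m := r) (by omega)
    (S2144.result (F := F) hF r (by omega)).1 H hH
  refine lt_of_lt_of_le ?_ h1
  rcases Nat.lt_or_ge r 5 with h | h
  · have h4 : r = 4 := by omega
    subst h4
    have : k = 4 := by rw [hk]; decide
    rw [this]
    norm_num
  · have hk8 : k ≤ 8 := by rw [hk]; split_ifs <;> norm_num
    have e1 : 3 ^ 5 ≤ 3 ^ r := Nat.pow_le_pow_right (by norm_num) h
    have e2 : 3 ^ (r + 2) = 9 * 3 ^ r := by rw [pow_add]; ring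
    rw [e2]
    generalize 3 ^ r = X at e1 ⊢
    have e3 : X * 242 ≤ X * (X - 1) := Nat.mul_le_mul_left _ (by omega)
    have e4 : k * (9 * X / 2) ≤ 8 * (9 * X / 2) := Nat.mul_le_mul_right _ hk8
    omega

end

end Cfsg.Agent.H229.Cyc
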